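/-
Simple groups in which `p` divides the order exactly once (namespace `Cfsg.Agent.MinNonPClosed`).

Main result: `two_mul_card_ge`, a nonabelian simple group `S` with `p ∥ |S|` has
`p (p² - 1) ≤ 2 |S|`.  Proof: the principal block degrees and their signs.
-/
import Cfsg.Agent.Lib.CyclicDefect.Apply
import Cfsg.Agent.Lib.CharApp.DegreeSets
import Cfsg.Agent.Lib.SmallOrders.Basic

set_option autoImplicit false

namespace Cfsg.Agent.MinNonPClosed

open Cfsg Cfsg.Agent.Blocks Cfsg.Agent.CyclicDefect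

/-- The arithmetic of one non-exceptional degree `f` with index `g` in `n * w`. -/
theorem degree_arith {p n w f g : ℕ} (hp : 3 ≤ p) (hn : n ≡ 1 [MOD p]) (hw0 : 0 < w)
    (hfg : f * g = n * w) (hb : 2 * (n * w) < (p - 1) * (p + 1)) (hn1 : p + 1 ≤ n) (hf2 : 2 ≤ f)
    (d : ℤ) (hd : d = 1 ∨ d = -1) (hmod : (f : ℤ) ≡ -d [ZMOD p]) : d = -1 ∧ f = n := by
  have hg0 : 0 < g := Nat.pos_of_ne_zero fun h => by
    rw [h, Nat.mul_zero] at hfg
    exact (Nat.mul_pos (by omega : 0 < n) hw0).ne hfg
  have hf : p - 1 ≤ f := by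
    by_contra hlt
    obtain ⟨c, hc⟩ := Int.modEq_iff_dvd.mp hmod
    have hlo : -(p : ℤ) < -d - f := by rcases hd with rfl | rfl <;> omega
    have hhi : -d - (f : ℤ) < 0 := by rcases hd with rfl | rfl <;> omega
    rw [hc] at hlo hhi
    have h1 : -1 < c := by by_contra; nlinarith
    have h2 : c < 0 := by by_contra; nlinarith
    omega
  have hg : 2 * g < p + 1 := by
    by_contra h
    have := Nat.mul_le_mul hf (Nat.le_of_not_lt h)
    rw [mul_left_comm f 2 g, hfg] at this
    omega
  have hw : 2 * w < p - 1 := by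
    by_contra h
    have := Nat.mul_le_mul hn1 (Nat.le_of_not_lt h)
    rw [mul_left_comm n 2 w, mul_comm (p + 1) (p - 1)] at this
    omega
  have hn' : (n : ℤ) ≡ 1 [ZMOD p] := by exact_mod_cast Int.natCast_modEq_iff.mpr hn
  have h1 : (w : ℤ) ≡ -d * g [ZMOD p] := by
    calc (w : ℤ) = 1 * w := (one_mul _).symm
      _ ≡ n * w [ZMOD p] := (hn'.mul_right _).symm
      _ = f * g := by exact_mod_cast hfg.symm
      _ ≡ -d * g [ZMOD p] := hmod.mul_right _
  obtain ⟨c, hc⟩ := Int.modEq_iff_dvd.mp h1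
  have hlo : -(p : ℤ) < -d * g - w := by rcases hd with rfl | rfl <;> omega
  have hhi : -d * (g : ℤ) - w < p := by rcases hd with rfl | rfl <;> omega
  rw [hc] at hlo hhi
  have hc1 : -1 < c := by by_contra; nlinarith
  have hc2 : c < 1 := by by_contra; nlinarith
  have hc0 : c = 0 := by omega
  rw [hc0, mul_zero] at hc
  rcases hd with rfl | rfl
  · omega
  · have hgw : g = w := by omega
    exact ⟨rfl, Nat.eq_of_mul_eq_mul_right hw0 (hgw ▸ hfg)⟩

theorem two_mul_card_ge {S : Type*} [Group S] [Finite S] [IsSimpleGroup S] (hS : ¬ IsMulCommutative S)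
    {p : ℕ} [Fact p.Prime] (hodd : p ≠ 2) (hdvd : p ∣ Nat.card S) (hsq : ¬ p ^ 2 ∣ Nat.card S) :
    p * (p ^ 2 - 1) ≤ 2 * Nat.card S := by
  classical
  have hp : p.Prime := Fact.out
  by_contra hlt
  have hp3 : 3 ≤ p := by have := hp.two_le; omega
  obtain ⟨P⟩ := (inferInstance : Nonempty (Sylow p S))
  have hP : Nat.card P = p := by
    rw [P.card_eq_multiplicity]
    have h1 : (Nat.card S).factorization p = 1 := by
      refine le_antisymm (not_lt.mp fun h => hsq ?_) (hp.dvd_iff_one_le_factorization Nat.card_pos.ne' |>.mp hdvd)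
      exact (hp.pow_dvd_iff_le_factorization Nat.card_pos.ne').mpr h
    rw [h1, pow_one]
  obtain ⟨M, hM⟩ := Blocks.exists_isPModular hp
  obtain ⟨x, L, hPx, hSet⟩ := exists_setting_of_sylow hp P hP
  set n := Nat.card (Sylow p S) with hn_def
  set w := Nat.card L with hw_def
  have hw0 : 0 < w := Nat.card_pos
  have hcard : Nat.card S = p * (n * w) := by
    rw [← Subgroup.card_mul_index (Subgroup.normalizer ((P : Subgroup S) : Set S)),
      show (Subgroup.normalizer ((P : Subgroup S) : Set S)).index = n from P.card_eq_index_normalizer.symm,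
      hPx, hSet.card_normalizer]
    ring
  have hn : n ≡ 1 [MOD p] := card_sylow_modEq_one p S
  have hn1 : p + 1 ≤ n := by
    have h1 := SmallOrders.one_lt_card_sylow hS hdvd
    obtain ⟨k, hk⟩ := (Nat.modEq_iff_dvd' h1.le).mp hn.symm
    have : p ≤ p * k := Nat.le_mul_of_pos_right p (Nat.pos_of_ne_zero fun h0 => by
      rw [h0, Nat.mul_zero] at hk; omega)
    omega
  have hb : 2 * (n * w) < (p - 1) * (p + 1) := by
    have h : 2 * (p * (n * w)) < p * (p ^ 2 - 1) := hcard ▸ Nat.lt_of_not_le hlt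
    rw [mul_left_comm] at h
    have := Nat.lt_of_mul_lt_mul_left h
    rw [mul_comm (p - 1), ← Nat.sq_sub_sq, one_pow]
    exact this
  have hw : 2 * w < p - 1 := by
    by_contra h
    have := Nat.mul_le_mul hn1 (Nat.le_of_not_lt h)
    rw [mul_left_comm n 2 w, mul_comm (p + 1) (p - 1)] at this
    omega
  have := hSet.normal_K
  have := Fintype.ofFinite (IrrCharacter S)
  have := Fintype.ofFinite (IrrCharacter (K x L))
  obtain ⟨hB, h1B⟩ := principal_isPBlock (G := S) hM
  have hl := lies_principal hSet hM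
  set U' := U hSet (oneK x L : K x L → ℂ) with hU'
  set e := Nat.card U' with he
  have he_dvd : e ∣ w := by
    rw [he, hU', card_U_one hSet]; exact Subgroup.index_dvd_card _
  have hew : e ≤ w := Nat.le_of_dvd hw0 he_dvd
  have he2 : 2 ≤ e := by
    rw [he, hU', card_U_one hSet]
    refine Nat.lt_of_le_of_ne (Nat.pos_of_ne_zero Subgroup.index_ne_zero_of_finite) fun h1 => ?_
    have htop := Subgroup.index_eq_one.mp h1.symm
    refine SmallOrders.normalizer_not_le_centralizer hS hdvd P fun g hg => ?_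
    rw [hPx] at hg ⊢
    obtain ⟨u, hu, l, hl', rfl⟩ := hSet.hgen g hg
    rw [SecondMain.mem_centralizer_zpowers_iff]
    obtain ⟨i, rfl⟩ := hSet.exists_pw hu
    exact (hSet.commute_pw i (Commute.refl x)).symm.mul_right
      (mem_K.mp (htop ▸ Subgroup.mem_top (⟨l, hl'⟩ : L)))
  obtain ⟨hk, exc, ε, δ, hinj, hexcB, hε, hexc, hcst, hrel⟩ := block_structure hSet hM hB hl
  have hmod : ∀ χ ∈ principalBlock M S, (charDegree (χ : S → ℂ) : ℤ) ≡
      ∑ u : (ZMod p)ˣ, bInt hSet χ (oneK x L) (u : ZMod p) [ZMOD p] := by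
    intro χ hχ
    have h := memI_apply_one_sub hSet hM hB hl hχ
    rw [card_lies_one hSet hM, Nat.cast_one, one_mul, show (oneK x L : K x L → ℂ) 1 = 1 from rfl, one_mul,
      ← charDegree_cast, ← Int.cast_natCast (R := ℂ)] at h
    exact intModEq_of_memI hM h
  have hneg : ((p - 1 : ℕ) : ℤ) ≡ -1 [ZMOD p] :=
    Int.modEq_iff_dvd.mpr ⟨-1, by rw [Nat.cast_sub hp.one_le]; push_cast; ring⟩
  set one : IrrCharacter S := ⟨1, Char.isIrrCharacter_one⟩ with hone
  have hone1 : charDegree (one : S → ℂ) = 1 := by simp [charDegree, hone]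
  have honeB : one ∈ principalBlock M S := h1B
  have honeN : one ∉ Set.range exc := by
    rintro ⟨c, hc⟩
    have h := hmod one honeB
    rw [← hc, sum_bInt_exc hSet (hexc c), hc, hone1] at h
    obtain ⟨d, hd⟩ := Int.modEq_iff_dvd.mp h
    rw [← hU', ← he, Nat.cast_one] at hd
    have hlo : -(p : ℤ) < ε * e - 1 := by rcases hε with r | r <;> rw [r] <;> omega
    have hhi : ε * (e : ℤ) - 1 < p := by rcases hε with r | r <;> rw [r] <;> omega
    rw [hd] at hlo hhi
    have hd1 : -1 < d := by by_contra; nlinarith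
    have hd2 : d < 1 := by by_contra; nlinarith
    rw [show d = 0 by omega, mul_zero] at hd
    rcases hε with r | r <;> rw [r] at hd <;> omega
  set T := Finset.univ.filter (fun χ => χ ∈ principalBlock M S ∧ χ ∉ Set.range exc) with hT
  have honeT : one ∈ T := Finset.mem_filter.mpr ⟨Finset.mem_univ _, honeB, honeN⟩
  have hdeg : ∀ χ ∈ T, δ χ = -1 ∧ (χ ≠ one → charDegree (χ : S → ℂ) = n) := by
    intro χ hχ
    obtain ⟨hχB, hχN⟩ := (Finset.mem_filter.mp hχ).2
    obtain ⟨hd, hrow⟩ := hcst χ hχB hχN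
    have h := hmod χ hχB
    rw [sum_bInt_const hSet hrow] at h
    have h2 : (charDegree (χ : S → ℂ) : ℤ) ≡ -(δ χ) [ZMOD p] := by
      have := h.trans (hneg.mul_left (δ χ)); rwa [mul_neg_one] at this
    by_cases h1 : charDegree (χ : S → ℂ) = 1
    · have hχ1 : χ = one := by
        refine Subtype.ext (funext fun g => ?_)
        have hc : commutator S = ⊤ :=
          (inferInstance : (commutator S).Normal).eq_bot_or_eq_top.resolve_left fun hb =>
            hS ⟨⟨fun a b => commutatorElement_eq_one_iff_mul_comm.mp (Subgroup.mem_bot.mp (hb ▸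
              Subgroup.commutator_mem_commutator (Subgroup.mem_top a) (Subgroup.mem_top b)))⟩⟩
        rw [CharApp.DegreeSets.apply_commutator_of_linear χ.2 h1 (hc ▸ Subgroup.mem_top g), CharApp.DegreeSets.apply_one χ.2, h1]
        simp [hone]
      refine ⟨?_, fun hne => absurd hχ1 hne⟩
      rw [h1] at h2
      rcases hd with r | r
      · rw [r] at h2
        obtain ⟨c, hc⟩ := Int.modEq_iff_dvd.mp h2
        have hlo : -(p : ℤ) < p * c := by rw [← hc]; omega
        have hhi : (p : ℤ) * c < 0 := by rw [← hc]; omega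
        have hc1 : -1 < c := by by_contra; nlinarith
        have hc2 : c < 0 := by by_contra; nlinarith
        omega
      · exact r
    · have hpd : ¬ p ∣ charDegree (χ : S → ℂ) := fun hd' => by
        have h0 := h2.symm.trans (Int.modEq_zero_iff_dvd.mpr (Int.natCast_dvd_natCast.mpr hd'))
        have h0' := Int.modEq_zero_iff_dvd.mp h0
        rw [dvd_neg] at h0'
        rcases hd with r | r <;> rw [r] at h0' <;>
          have := Int.natCast_dvd.mp h0' <;> simp at this <;> omega
      obtain ⟨g, hg⟩ : charDegree (χ : S → ℂ) ∣ n * w :=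
        (Nat.Coprime.dvd_of_dvd_mul_left (hp.coprime_iff_not_dvd.mpr hpd).symm
          (hcard ▸ Blocks.charDegree_dvd_card χ))
      have h2le : 2 ≤ charDegree (χ : S → ℂ) := by have := Blocks.charDegree_pos χ; omega
      obtain ⟨r1, r2⟩ := degree_arith hp3 hn hw0 hg.symm hb hn1 h2le (δ χ) hd h2
      exact ⟨r1, fun _ => r2⟩
  have hTcard : T.card = e := by
    have h0 : Nat.card (principalBlock M S) = (Finset.univ.filter (· ∈ principalBlock M S)).card := by
      rw [Nat.card_eq_fintype_card, ← Fintype.card_subtype]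
    have h1 : (Finset.univ.filter (· ∈ principalBlock M S)).card = T.card + (Finset.univ.image exc).card := by
      rw [← Finset.card_union_of_disjoint]
      · congr 1
        ext χ
        simp only [hT, Finset.mem_filter, Finset.mem_univ, true_and, Finset.mem_union, Finset.mem_image,
          Set.mem_range]
        refine ⟨fun h => ?_, ?_⟩
        · by_cases hr : ∃ c, exc c = χ
          · exact Or.inr hr
          · exact Or.inl ⟨h, hr⟩
        · rintro (⟨h, -⟩ | ⟨c, rfl⟩)
          · exact h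
          · exact hexcB c
      · rw [Finset.disjoint_left]
        intro χ hχ hχ'
        obtain ⟨c, -, rfl⟩ := Finset.mem_image.mp hχ'
        exact (Finset.mem_filter.mp hχ).2.2 ⟨c, rfl⟩
    rw [Finset.card_image_of_injective _ hinj, Finset.card_univ, ← Nat.card_eq_fintype_card, ← hU'] at h1
    rw [← hU'] at hk
    rw [← he] at hk
    omega
  have hsum := hrel 1 (by simp [hp.ne_one]) (((1 : (ZMod p)ˣ) : (ZMod p)ˣ ⧸ U'))
  rw [← Finset.sum_erase_add _ _ honeT, Finset.sum_congr rfl (g := fun _ => (((-(n : ℤ)) : ℤ) : ℂ))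
    (fun χ hχ => by
      obtain ⟨hne, hχT⟩ := Finset.mem_erase.mp hχ
      rw [← charDegree_cast, (hdeg χ hχT).1, (hdeg χ hχT).2 hne]; push_cast; ring),
    Finset.sum_const, Finset.card_erase_of_mem honeT, hTcard, (hdeg one honeT).1, ← charDegree_cast,
    ← charDegree_cast, hone1, nsmul_eq_mul] at hsum
  set c₀ := exc ((1 : (ZMod p)ˣ) : (ZMod p)ˣ ⧸ U') with hc₀
  have hd1 : charDegree (c₀ : S → ℂ) = (e - 1) * n + 1 := by
    have hz : ((e - 1 : ℕ) : ℤ) * (-(n : ℤ)) + -1 * 1 + ε * (charDegree (c₀ : S → ℂ) : ℤ) = 0 :=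
      Int.cast_injective (α := ℂ) (by push_cast; push_cast at hsum; linear_combination hsum)
    have hpos : (0 : ℤ) ≤ ((e - 1 : ℕ) : ℤ) * n := by positivity
    rcases hε with r | r <;> rw [r] at hz
    · have : (charDegree (c₀ : S → ℂ) : ℤ) = (((e - 1) * n + 1 : ℕ) : ℤ) := by push_cast; linarith
      exact_mod_cast this
    · have := Int.natCast_nonneg (charDegree (c₀ : S → ℂ)); nlinarith
  have hdn : charDegree (c₀ : S → ℂ) ∣ n * w := by
    refine Nat.Coprime.dvd_of_dvd_mul_left (hp.coprime_iff_not_dvd.mpr fun hd => ?_).symm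
      (hcard ▸ Blocks.charDegree_dvd_card c₀)
    have h := (hmod c₀ (hexcB _)).symm.trans (Int.modEq_zero_iff_dvd.mpr (Int.natCast_dvd_natCast.mpr hd))
    rw [hc₀, sum_bInt_exc hSet (hexc _), ← hU', ← he] at h
    have h' := Int.modEq_zero_iff_dvd.mp h
    rcases hε with r | r <;> rw [r] at h'
    · rw [one_mul] at h'
      have := Nat.le_of_dvd (by omega) (Int.natCast_dvd_natCast.mp h'); omega
    · rw [neg_one_mul, dvd_neg] at h'
      have := Nat.le_of_dvd (by omega) (Int.natCast_dvd_natCast.mp h'); omega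
  rw [hd1] at hdn
  have hco : ((e - 1) * n + 1).Coprime n := by
    rw [add_comm, Nat.coprime_add_mul_right_left]; exact Nat.coprime_one_left n
  have := Nat.le_of_dvd hw0 (hco.dvd_of_dvd_mul_left hdn)
  have : n ≤ (e - 1) * n := Nat.le_mul_of_pos_left n (by omega)
  omega

end Cfsg.Agent.MinNonPClosed
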